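-- FW (S3211) package [CNT]: strictly more square roots of `j` than of `t₀` in `C(j) ∩ C(t₀)`.
-- (helper26)
import Cfsg.Agent.Lib.Helper44.FW.Defs

set_option autoImplicit false

namespace Cfsg.Agent.Lib.Helper26.FW

open Cfsg.Agent.Lib.Helper44.FW

universe u

theorem pkgCnt : PkgCnt.{u} := by
  intro G _ _ L₁ L₂ j n hcfg x₀ hx₀ hx₀2 hCY hPhi
  classical
  have := Fintype.ofFinite G
  obtain ⟨a, b, hab⟩ := hCY
  set y₀ : G := n * x₀ * n⁻¹ with hy₀def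
  set t₀ : G := x₀ * y₀ with ht₀def
  have hj2 : j ^ 2 = 1 := by rw [← hcfg.ord]; exact pow_orderOf_eq_one j
  have hj1 : j ≠ 1 := by
    intro h
    have h1 := hcfg.ord
    rw [h, orderOf_one] at h1
    omega
  have hjinv : j⁻¹ = j := inv_eq_of_mul_eq_one_left (by rw [← pow_two]; exact hj2)
  have hy₀L₂ : y₀ ∈ L₂ := by
    rw [← hcfg.swap]
    exact ⟨x₀, hx₀, rfl⟩
  have hnj : n * j = j * n := by rw [← hcfg.hn2]; group
  have hx₀j : x₀ * j = j * x₀ := by rw [← hx₀2]; group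
  have hy₀2 : y₀ ^ 2 = j := by
    have h1 : y₀ ^ 2 = n * x₀ ^ 2 * n⁻¹ := by rw [hy₀def, pow_two, pow_two]; group
    rw [h1, hx₀2, hnj, mul_inv_cancel_right]
  have hy₀j : y₀ * j = j * y₀ := by rw [← hy₀2]; group
  have hxy : x₀ * y₀ = y₀ * x₀ := hcfg.comm x₀ hx₀ y₀ hy₀L₂
  have hzp : ∀ w ∈ Subgroup.zpowers j, w ^ 2 = 1 := by
    intro w hw
    obtain ⟨k, rfl⟩ := Subgroup.mem_zpowers_iff.mp hw
    rw [← zpow_natCast, ← zpow_mul, mul_comm, zpow_mul, zpow_natCast, hj2, one_zpow]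
  have hmeet : ∀ w, w ∈ L₁ → w ∈ L₂ → w ^ 2 = 1 := by
    intro w h1 h2
    apply hzp
    rw [← hcfg.meet]
    exact ⟨h1, h2⟩
  have hx₀Y : x₀ ∈ L₁ ⊔ L₂ := (le_sup_left : L₁ ≤ L₁ ⊔ L₂) hx₀
  have hy₀Y : y₀ ∈ L₁ ⊔ L₂ := (le_sup_right : L₂ ≤ L₁ ⊔ L₂) hy₀L₂
  have hYnorm : L₁ ⊔ L₂ ≤ Subgroup.normalizer (L₁ : Set G) := by
    apply sup_le Subgroup.le_normalizer
    intro v hv
    rw [Subgroup.mem_normalizer_iff]
    intro h
    constructor
    · intro hh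
      have h1 := hcfg.comm h hh v hv
      rw [← h1, mul_inv_cancel_right]; exact hh
    · intro hh
      have hc := hcfg.comm (v * h * v⁻¹) hh v hv
      have h1 : v * h = v * (v * h * v⁻¹) := by rw [← hc]; group
      have h2 : h = v * h * v⁻¹ := mul_left_cancel h1
      rw [h2]; exact hh
  have hnY : n ∉ L₁ ⊔ L₂ := by
    intro hn
    have h1 := (Subgroup.mem_normalizer_iff.mp (hYnorm hn) x₀).mp hx₀
    have h2 := hmeet y₀ h1 hy₀L₂
    rw [hy₀2] at h2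
    exact hj1 h2
  have hx₀ne : x₀ ≠ x₀⁻¹ := by
    intro h
    have h1 : x₀ * x₀ = 1 := by
      have h2 : x₀ * x₀⁻¹ = 1 := mul_inv_cancel x₀
      rwa [← h] at h2
    rw [← pow_two, hx₀2] at h1; exact hj1 h1
  have hy₀ne : y₀ ≠ y₀⁻¹ := by
    intro h
    have h1 : y₀ * y₀ = 1 := by
      have h2 : y₀ * y₀⁻¹ = 1 := mul_inv_cancel y₀
      rwa [← h] at h2
    rw [← pow_two, hy₀2] at h1; exact hj1 h1
  have hxy1 : x₀ ≠ y₀ := by
    intro h
    have h1 : x₀ ∈ L₂ := by rw [h]; exact hy₀L₂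
    have h2 := hmeet x₀ hx₀ h1
    rw [hx₀2] at h2; exact hj1 h2
  have hxy2 : x₀ ≠ y₀⁻¹ := by
    intro h
    have h1 : x₀ ∈ L₂ := by rw [h]; exact L₂.inv_mem hy₀L₂
    have h2 := hmeet x₀ hx₀ h1
    rw [hx₀2] at h2; exact hj1 h2
  have hxy3 : x₀⁻¹ ≠ y₀ := fun h => hxy2 (by rw [← h, inv_inv])
  have hxy4 : x₀⁻¹ ≠ y₀⁻¹ := fun h => hxy1 (inv_injective h)
  have hx₀t : x₀ * t₀ = t₀ * x₀ := by
    show x₀ * (x₀ * y₀) = x₀ * y₀ * x₀
    rw [mul_assoc, ← hxy]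
  have hy₀t : y₀ * t₀ = t₀ * y₀ := by
    show y₀ * (x₀ * y₀) = x₀ * y₀ * y₀
    rw [← mul_assoc, ← hxy]
  have hnx : n * x₀ = y₀ * n := by rw [hy₀def]; group
  have hny : n * y₀ = x₀ * n := by
    have h2 : n ^ 2 * x₀ = x₀ * n ^ 2 := by rw [hcfg.hn2]; exact hx₀j.symm
    calc n * y₀ = (n ^ 2 * x₀) * n⁻¹ := by rw [hy₀def, pow_two]; simp only [mul_assoc]
      _ = (x₀ * n ^ 2) * n⁻¹ := by rw [h2]
      _ = x₀ * n := by rw [pow_two, mul_assoc, mul_assoc, mul_inv_cancel, mul_one]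
  have hnt : n * t₀ = t₀ * n := by
    calc n * t₀ = (n * x₀) * y₀ := (mul_assoc n x₀ y₀).symm
      _ = (y₀ * n) * y₀ := by rw [hnx]
      _ = y₀ * (n * y₀) := mul_assoc y₀ n y₀
      _ = y₀ * (x₀ * n) := by rw [hny]
      _ = (y₀ * x₀) * n := (mul_assoc y₀ x₀ n).symm
      _ = t₀ * n := by rw [ht₀def, hxy]
  -- counting
  have hcard : ∀ (p : G → Prop) [DecidablePred p],
      Nat.card {r : G // p r} = (Finset.univ.filter p).card := by
    intro p _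
    rw [Nat.card_eq_fintype_card, Fintype.card_subtype]
  rw [hcard, hcard]
  set A := Finset.univ.filter (fun r : G => r * j = j * r ∧ r * t₀ = t₀ * r ∧ r ^ 2 = t₀) with hA
  set B := Finset.univ.filter (fun r : G => r * j = j * r ∧ r * t₀ = t₀ * r ∧ r ^ 2 = j) with hB
  have hsplit : (A.filter (fun r => r ∈ L₁ ⊔ L₂)).card +
      (A.filter (fun r => ¬ r ∈ L₁ ⊔ L₂)).card = A.card :=
    Finset.card_filter_add_card_filter_not _
  have hA1 : (A.filter (fun r => r ∈ L₁ ⊔ L₂)).card ≤ 4 := by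
    refine (Finset.card_le_card ?_).trans
      (Finset.card_le_four (a := a) (b := a * j) (c := b) (d := b * j))
    intro r hr
    rw [Finset.mem_filter] at hr
    have hrA := hr.1
    rw [hA, Finset.mem_filter] at hrA
    have h1 := hab r hr.2 hrA.2.2.2
    simp only [Finset.mem_insert, Finset.mem_singleton]
    exact h1
  have hn1 : y₀⁻¹ ∉ ({n} : Finset G) := by
    rw [Finset.mem_singleton]; intro h
    exact hnY (h ▸ (L₁ ⊔ L₂).inv_mem hy₀Y)
  have hn2 : y₀ ∉ insert y₀⁻¹ ({n} : Finset G) := by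
    rw [Finset.mem_insert, Finset.mem_singleton]; rintro (h | h)
    · exact hy₀ne h
    · exact hnY (h ▸ hy₀Y)
  have hn3 : x₀⁻¹ ∉ insert y₀ (insert y₀⁻¹ ({n} : Finset G)) := by
    simp only [Finset.mem_insert, Finset.mem_singleton]; rintro (h | h | h)
    · exact hxy3 h
    · exact hxy4 h
    · exact hnY (h ▸ (L₁ ⊔ L₂).inv_mem hx₀Y)
  have hn4 : x₀ ∉ insert x₀⁻¹ (insert y₀ (insert y₀⁻¹ ({n} : Finset G))) := by
    simp only [Finset.mem_insert, Finset.mem_singleton]; rintro (h | h | h | h)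
    · exact hx₀ne h
    · exact hxy1 h
    · exact hxy2 h
    · exact hnY (h ▸ hx₀Y)
  have hF5 : (insert x₀ (insert x₀⁻¹ (insert y₀ (insert y₀⁻¹ ({n} : Finset G))))).card = 5 := by
    rw [Finset.card_insert_of_notMem hn4, Finset.card_insert_of_notMem hn3,
      Finset.card_insert_of_notMem hn2, Finset.card_insert_of_notMem hn1, Finset.card_singleton]
  have hA2 : ∀ r ∈ A.filter (fun r => ¬ r ∈ L₁ ⊔ L₂),
      r * j = j * r ∧ r * t₀ = t₀ * r ∧ r ∉ L₁ ⊔ L₂ ∧ (r * x₀) ^ 2 = j ∧ r * x₀ ≠ n := by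
    intro r hr
    rw [Finset.mem_filter, hA, Finset.mem_filter] at hr
    obtain ⟨⟨-, hrj, hrt, hr2⟩, hrY⟩ := hr
    have hrC : r ∈ Subgroup.centralizer ({j} : Set G) := by
      rw [Subgroup.mem_centralizer_iff]
      intro h hh
      rw [Set.mem_singleton_iff] at hh
      rw [hh]; exact hrj.symm
    have hp := hPhi r hrC hrY hrt hr2
    exact ⟨hrj, hrt, hrY, hp.1, hp.2⟩
  have himg : ((A.filter (fun r => ¬ r ∈ L₁ ⊔ L₂)).image (· * x₀)).card =
      (A.filter (fun r => ¬ r ∈ L₁ ⊔ L₂)).card :=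
    Finset.card_image_of_injective _ (mul_left_injective x₀)
  have hdisj : Disjoint ((A.filter (fun r => ¬ r ∈ L₁ ⊔ L₂)).image (· * x₀))
      (insert x₀ (insert x₀⁻¹ (insert y₀ (insert y₀⁻¹ ({n} : Finset G))))) := by
    rw [Finset.disjoint_left]
    intro w hw hw5
    obtain ⟨r, hr, rfl⟩ := Finset.mem_image.mp hw
    obtain ⟨-, -, hrY, -, hrn⟩ := hA2 r hr
    have hrxY : r * x₀ ∉ L₁ ⊔ L₂ := fun h => hrY (by
      have h1 := (L₁ ⊔ L₂).mul_mem h ((L₁ ⊔ L₂).inv_mem hx₀Y)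
      rwa [mul_inv_cancel_right] at h1)
    simp only [Finset.mem_insert, Finset.mem_singleton] at hw5
    rcases hw5 with h | h | h | h | h
    · exact hrxY (by rw [h]; exact hx₀Y)
    · exact hrxY (by rw [h]; exact (L₁ ⊔ L₂).inv_mem hx₀Y)
    · exact hrxY (by rw [h]; exact hy₀Y)
    · exact hrxY (by rw [h]; exact (L₁ ⊔ L₂).inv_mem hy₀Y)
    · exact hrn h
  have hsub : (A.filter (fun r => ¬ r ∈ L₁ ⊔ L₂)).image (· * x₀) ∪
      (insert x₀ (insert x₀⁻¹ (insert y₀ (insert y₀⁻¹ ({n} : Finset G))))) ⊆ B := by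
    intro w hw
    rw [Finset.mem_union] at hw
    rw [hB, Finset.mem_filter]
    refine ⟨Finset.mem_univ _, ?_⟩
    rcases hw with hw | hw
    · obtain ⟨r, hr, rfl⟩ := Finset.mem_image.mp hw
      obtain ⟨hrj, hrt, -, hr2, -⟩ := hA2 r hr
      refine ⟨?_, ?_, hr2⟩
      · rw [mul_assoc, hx₀j, ← mul_assoc, hrj, mul_assoc]
      · rw [mul_assoc, hx₀t, ← mul_assoc, hrt, mul_assoc]
    · simp only [Finset.mem_insert, Finset.mem_singleton] at hw
      rcases hw with h | h | h | h | h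
      · rw [h]; exact ⟨hx₀j, hx₀t, hx₀2⟩
      · rw [h]
        exact ⟨(show Commute x₀ j from hx₀j).inv_left.eq,
          (show Commute x₀ t₀ from hx₀t).inv_left.eq, by rw [inv_pow, hx₀2, hjinv]⟩
      · rw [h]; exact ⟨hy₀j, hy₀t, hy₀2⟩
      · rw [h]
        exact ⟨(show Commute y₀ j from hy₀j).inv_left.eq,
          (show Commute y₀ t₀ from hy₀t).inv_left.eq, by rw [inv_pow, hy₀2, hjinv]⟩
      · rw [h]; exact ⟨hnj, hnt, hcfg.hn2⟩
  have hB5 : (A.filter (fun r => ¬ r ∈ L₁ ⊔ L₂)).card + 5 ≤ B.card := by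
    have h1 := Finset.card_le_card hsub
    rw [Finset.card_union_of_disjoint hdisj, himg, hF5] at h1
    exact h1
  omega

end Cfsg.Agent.Lib.Helper26.FW
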