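-- FW (S3211): square roots in SL₂(F), char ≠ 2: if X² = -1 and U² = U'² = X (det U = det U' = 1)
-- then U' = ± U.  (helper26; generic, Mathlib only)
import Mathlib

set_option autoImplicit false

namespace Cfsg.Agent.Lib.Helper26.FW

universe u

theorem cayley_hamilton_two {F : Type u} [Field F] (U : Matrix (Fin 2) (Fin 2) F) :
    U * U = U.trace • U - U.det • (1 : Matrix (Fin 2) (Fin 2) F) := by
  ext i j
  fin_cases i <;> fin_cases j <;>
    simp [Matrix.mul_apply, Fin.sum_univ_two, Matrix.trace, Matrix.det_fin_two] <;> ring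

/-- a matrix `X` of determinant 1 with `X² = -1` has trace 0 -/
theorem trace_eq_zero_of_sq_eq_neg_one {F : Type u} [Field F]
    (X : Matrix (Fin 2) (Fin 2) F) (hdet : X.det = 1) (hX : X * X = -1) : X.trace = 0 := by
  have h1 := cayley_hamilton_two X
  rw [hX, hdet, one_smul] at h1
  have h2 : X.trace • X = 0 := by
    have h3 : X.trace • X = (X.trace • X - 1) + 1 := by abel
    rw [h3, ← h1]; simp
  rcases smul_eq_zero.mp h2 with h | h
  · exact h
  · exfalso
    rw [h] at hdet
    simp at hdet

/-- a square root `U` (det 1) of `X` with `X² = -1`, `det X = 1` has `(tr U)² = 2` and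
`tr U • U = X + 1` -/
theorem sq_root_facts {F : Type u} [Field F]
    (X U : Matrix (Fin 2) (Fin 2) F) (hU : U.det = 1) (hX : X * X = -1) (h1 : U * U = X) :
    U.trace ^ 2 = 2 ∧ U.trace • U = X + 1 := by
  have hdetX : X.det = 1 := by rw [← h1, Matrix.det_mul, hU, mul_one]
  have htr := trace_eq_zero_of_sq_eq_neg_one X hdetX hX
  have hch := cayley_hamilton_two U
  rw [h1, hU, one_smul] at hch
  refine ⟨?_, ?_⟩
  · have h2 := congrArg Matrix.trace hch
    rw [htr, Matrix.trace_sub, Matrix.trace_smul, Matrix.trace_one] at h2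
    simp at h2
    linear_combination -h2
  · rw [hch]; abel

theorem sq_root_unique {F : Type u} [Field F] (h2 : (2 : F) ≠ 0)
    (X U U' : Matrix (Fin 2) (Fin 2) F) (hU : U.det = 1) (hU' : U'.det = 1)
    (hX : X * X = -1) (h1 : U * U = X) (h1' : U' * U' = X) : U' = U ∨ U' = -U := by
  obtain ⟨ht, hs⟩ := sq_root_facts X U hU hX h1
  obtain ⟨ht', hs'⟩ := sq_root_facts X U' hU' hX h1'
  have hne : U.trace ≠ 0 := by
    intro h
    rw [h] at ht
    apply h2
    rw [← ht]; simp
  have h3 : (U'.trace - U.trace) * (U'.trace + U.trace) = 0 := by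
    linear_combination ht' - ht
  rcases mul_eq_zero.mp h3 with h | h
  · left
    have h4 : U'.trace = U.trace := by linear_combination h
    rw [h4, ← hs] at hs'
    exact smul_right_injective _ hne hs'
  · right
    have h4 : U'.trace = -U.trace := by linear_combination h
    rw [h4, ← hs, neg_smul, ← smul_neg] at hs'
    have h5 := smul_right_injective _ hne hs'
    rw [← h5, neg_neg]

end Cfsg.Agent.Lib.Helper26.FW
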