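-- FW (S3211) package [SL2SQ]: an element `x` of `SL₂(F)` with `x² = -1` has at most two square
-- roots, `u` and `-u`.  (helper26)
import Cfsg.Agent.Lib.Helper44.FW.Defs
import Cfsg.Agent.Lib.Helper26.FW.SqRoot

set_option autoImplicit false

namespace Cfsg.Agent.Lib.Helper26.FW

open Cfsg.Agent.Lib.Helper44.FW

universe u

theorem negOne_coe26 (F : Type u) [Field F] :
    ((negOne F : Matrix.SpecialLinearGroup (Fin 2) F) : Matrix (Fin 2) (Fin 2) F) = -1 := by
  ext i j
  fin_cases i <;> fin_cases j <;> simp [negOne]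

theorem pkgSL2SQ : PkgSL2SQ.{u} := by
  intro F _ h2 x u u' hx hu hu'
  have hX : (x : Matrix (Fin 2) (Fin 2) F) * (x : Matrix (Fin 2) (Fin 2) F) = -1 := by
    have h := congrArg
      (fun y : Matrix.SpecialLinearGroup (Fin 2) F => (y : Matrix (Fin 2) (Fin 2) F)) hx
    simpa [pow_two, negOne_coe26] using h
  have hU : (u : Matrix (Fin 2) (Fin 2) F) * (u : Matrix (Fin 2) (Fin 2) F) =
      (x : Matrix (Fin 2) (Fin 2) F) := by
    have h := congrArg
      (fun y : Matrix.SpecialLinearGroup (Fin 2) F => (y : Matrix (Fin 2) (Fin 2) F)) hu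
    simpa [pow_two] using h
  have hU' : (u' : Matrix (Fin 2) (Fin 2) F) * (u' : Matrix (Fin 2) (Fin 2) F) =
      (x : Matrix (Fin 2) (Fin 2) F) := by
    have h := congrArg
      (fun y : Matrix.SpecialLinearGroup (Fin 2) F => (y : Matrix (Fin 2) (Fin 2) F)) hu'
    simpa [pow_two] using h
  rcases sq_root_unique h2 _ _ _ u.2 u'.2 hX hU hU' with h | h
  · left
    exact Subtype.ext h
  · right
    apply Subtype.ext
    show (u' : Matrix (Fin 2) (Fin 2) F) =
      (u : Matrix (Fin 2) (Fin 2) F) * (negOne F : Matrix (Fin 2) (Fin 2) F)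
    rw [negOne_coe26, h]
    simp

end Cfsg.Agent.Lib.Helper26.FW
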